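import Cfsg.Agent.SporRec.SuzM.P

/-!
# The closing step for groups of type `Suz`

`surjective_of_centralizer`: an injective homomorphism from the presented Suzuki group to a finite
group `G` whose range contains the centralizer of (the image of) the generator `a` is surjective,
provided that this centralizer has order `3317760 = 2 ^ 13 * 3 ^ 4 * 5`.
-/

set_option autoImplicit false
set_option maxRecDepth 100000
set_option linter.constructorNameAsVariable false

namespace Cfsg.Agent.SporRec.SuzM.Model

open Cfsg.Spor Cfsg.Agent.SporadicRecognition.SuzPhi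
  Cfsg.Agent.SporadicRecognition.SuzOrder Cfsg.Agent.SporRec.PcEnum Cfsg.Agent.SporRec.SuzM.Tab
  Cfsg.Agent.SporRec.ClosingSuz Cfsg.Agent.SporRec.ClosingThree Cfsg.Agent.SporRec.SuzM.T
  Cfsg.Agent.SporRec.SuzM.P

theorem ge_a_ne_one : ge .a ≠ 1 := by
  intro h1
  have h2 := fc_gen .a
  rw [cnt_a, h1, fc] at h2
  simp at h2

theorem model3 : Model3 Suz (ge .a) (ge .e) P7 E5 τ where
  zz := ge_sq .a
  z1 := ge_a_ne_one
  two := two
  comm := comm
  Pcard := card_P
  Pmax := by rw [card_Suz]; norm_num
  EP := P.EP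
  Ecard := card_E
  Pτ := P.Pτ
  τcen := P.τcen
  cls := P.cls
  E3 := P.E3
  Ecen := P.Ecen
  Einv := P.Einv

/-- A word of order 7 commuting with `e`. -/
def w7 : List Suz.Gen :=
  [.b, .f, .d, .c, .b, .d, .c, .g, .b, .a, .b, .g, .c, .d, .b, .c, .d]

theorem w7_pow : (el w7) ^ 7 = 1 := by
  have h : el (rp w7 7) = el [] := el_eq (by decide +kernel)
  rw [el_nil] at h
  rw [← h]
  exact (rp_prod (fun x => (PresentedGroup.of x : Suz)) w7 7).symm

theorem w7_ne : el w7 ≠ 1 := by
  intro h
  have h1 : pw w7 0 = φ (el w7) 0 := pw_eq w7 (by norm_num)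
  have h2 : pw w7 14 = φ (el w7) 14 := pw_eq w7 (by norm_num)
  rw [h, map_one] at h1 h2
  have h3 : Bool.and (Nat.beq (pw w7 0) 0) (Nat.beq (pw w7 14) 14) = false := by decide +kernel
  rw [h1, h2] at h3
  exact absurd h3 (by decide)

theorem w7_comm : el w7 * ge .e = ge .e * el w7 := by
  have h1 : el (w7 ++ [.e]) = el (.e :: w7) := el_eq (by decide +kernel)
  rw [el_append, el_cons, el_cons, el_nil, mul_one] at h1
  exact h1

instance fact7 : Fact (Nat.Prime 7) := ⟨by norm_num⟩

theorem order_w7 : orderOf (el w7) = 7 := orderOf_eq_prime w7_pow w7_ne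

/-- **The closing step for groups of type `Suz`.** -/
theorem surjective_of_centralizer {G : Type*} [Group G] [Finite G] (f : Suz →* G)
    (hf : Function.Injective f)
    (hC : Subgroup.centralizer ({f (PresentedGroup.of Suz.Gen.a)} : Set G) ≤ f.range)
    (h243 : ¬ 243 ∣ Nat.card (Subgroup.centralizer ({f (PresentedGroup.of Suz.Gen.a)} : Set G)))
    (h7 : ¬ 7 ∣ Nat.card (Subgroup.centralizer ({f (PresentedGroup.of Suz.Gen.a)} : Set G))) :
    Function.Surjective f :=
  model3.surjective f hf hC h243 7 h7 (el w7) order_w7 w7_comm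

theorem surjective_of_card {G : Type*} [Group G] [Finite G] (f : Suz →* G)
    (hf : Function.Injective f)
    (hC : Subgroup.centralizer ({f (PresentedGroup.of Suz.Gen.a)} : Set G) ≤ f.range)
    (hcard : Nat.card (Subgroup.centralizer ({f (PresentedGroup.of Suz.Gen.a)} : Set G)) =
      3317760) :
    Function.Surjective f :=
  surjective_of_centralizer f hf hC (by rw [hcard]; norm_num) (by rw [hcard]; norm_num)

end Cfsg.Agent.SporRec.SuzM.Model
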