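import Cfsg.Agent.SporRec.SuzM.TData
import Cfsg.Agent.SporRec.ClosingThree

/-!
A Sylow 2-subgroup of the Suzuki group and the two classes of involutions.
-/

set_option autoImplicit false
set_option maxRecDepth 100000
set_option linter.dupNamespace false
set_option linter.constructorNameAsVariable false

namespace Cfsg.Agent.SporRec.SuzM.T

open Cfsg.Spor Cfsg.Agent.SporadicRecognition.SuzPhi
  Cfsg.Agent.SporadicRecognition.SuzOrder Cfsg.Agent.SporRec.PcEnum Cfsg.Agent.SporRec.SuzM.Tab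
  Cfsg.Agent.SporRec.SuzM.TData Cfsg.Agent.SporRec.ClosingSuz

noncomputable def gs : List Suz := [el w0, el w1, el w2, el w3, el w4, el w5, el w6, el w7, el w8,
  el w9, el w10, el w11, el w12]

theorem rep0 : Rep t0 (el w0) := rep_of_chkTab (by decide +kernel)
theorem rep1 : Rep t1 (el w1) := rep_of_chkTab (by decide +kernel)
theorem rep2 : Rep t2 (el w2) := rep_of_chkTab (by decide +kernel)
theorem rep3 : Rep t3 (el w3) := rep_of_chkTab (by decide +kernel)
theorem rep4 : Rep t4 (el w4) := rep_of_chkTab (by decide +kernel)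
theorem rep5 : Rep t5 (el w5) := rep_of_chkTab (by decide +kernel)
theorem rep6 : Rep t6 (el w6) := rep_of_chkTab (by decide +kernel)
theorem rep7 : Rep t7 (el w7) := rep_of_chkTab (by decide +kernel)
theorem rep8 : Rep t8 (el w8) := rep_of_chkTab (by decide +kernel)
theorem rep9 : Rep t9 (el w9) := rep_of_chkTab (by decide +kernel)
theorem rep10 : Rep t10 (el w10) := rep_of_chkTab (by decide +kernel)
theorem rep11 : Rep t11 (el w11) := rep_of_chkTab (by decide +kernel)
theorem rep12 : Rep t12 (el w12) := rep_of_chkTab (by decide +kernel)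

theorem rep_ts : List.Forall₂ Rep ts gs :=
  .cons rep0 (.cons rep1 (.cons rep2 (.cons rep3 (.cons rep4 (.cons rep5 (.cons rep6 (.cons rep7
    (.cons rep8 (.cons rep9 (.cons rep10 (.cons rep11 (.cons rep12 .nil))))))))))))

theorem pc : PC 2 gs := pcB_spec rep_ts rels (by decide +kernel)

/-- The Sylow 2-subgroup. -/
noncomputable def T : Subgroup Suz := cl gs

/-- Image of a point under the element with code `e`. -/
noncomputable def ev2 (e p : ℕ) : ℕ := ev 2 ts e p

/-- The element with code `e`. -/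
noncomputable def n2 (e : ℕ) : Suz := nf 2 gs e

theorem ev2_eq (e : ℕ) {p : ℕ} (hp : p < 1782) : ev2 e p = φ (n2 e) p := ev_eq 2 rep_ts e hp

theorem n2_mem (e : ℕ) : n2 e ∈ T := nf_mem 2 gs e

theorem exists_n2 {x : Suz} (hx : x ∈ T) : ∃ e < 2 ^ 13, n2 e = x :=
  pc.exists_nf (by norm_num) x hx

noncomputable def faithB : Bool :=
  allP (fun e => Bool.or (Nat.beq e 0)
    (Bool.not (Bool.and (Nat.beq (ev2 e 11) 11) (Nat.beq (ev2 e 2) 2)))) 13 0

theorem faith_chk : faithB = true := by decide +kernel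

theorem faith {e : ℕ} (he : e < 2 ^ 13) (h11 : φ (n2 e) 11 = 11) (h2 : φ (n2 e) 2 = 2) :
    e = 0 := by
  have h := allP_spec0 faith_chk he
  rw [Bool.or_eq_true] at h
  rcases h with h | h
  · exact Nat.eq_of_beq_eq_true h
  · exfalso
    rw [ev2_eq e (by norm_num), ev2_eq e (by norm_num), h11, h2] at h
    exact absurd h (by decide)

theorem card_T : Nat.card T = 2 ^ 13 := by
  refine pc.card (by norm_num) (fun e he h => faith he ?_ ?_)
  · change φ (nf 2 gs e) 11 = 11
    rw [h, map_one]; rfl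
  · change φ (nf 2 gs e) 2 = 2
    rw [h, map_one]; rfl

theorem eq_of_key {x y : Suz} (hx : x ∈ T) (hy : y ∈ T) (h11 : φ x 11 = φ y 11)
    (h2 : φ x 2 = φ y 2) : x = y := by
  obtain ⟨e, he, hex⟩ := exists_n2 (mul_mem (inv_mem hy) hx)
  have key : ∀ q, φ x q = φ y q → φ (y⁻¹ * x) q = q := by
    intro q hq
    rw [map_mul, Equiv.Perm.mul_apply, hq, map_inv]
    simp
  have h0 : e = 0 := faith he (by rw [hex]; exact key _ h11) (by rw [hex]; exact key _ h2)
  subst h0
  have h3 : n2 0 = 1 := by simp [n2, gs, nf]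
  rw [h3] at hex
  exact (inv_mul_eq_one.mp hex.symm).symm

theorem conj_T (H : Subgroup Suz) (hH : IsPGroup 2 H) : ∃ g : Suz, ∀ h ∈ H, g * h * g⁻¹ ∈ T := by
  have := finiteSuz
  have : Fact (Nat.Prime 2) := ⟨Nat.prime_two⟩
  apply exists_conj_mem 2 T _ H hH
  rw [card_T, card_Suz, factorization_eq (p := 2) (k := 13) (m := 54729675) Nat.prime_two
    (by norm_num) (by norm_num)]

/-- Check of `nf e * nf s = nf s * nf r`. -/
noncomputable def certB (e s r : ℕ) : Bool :=
  Bool.and (Nat.beq (ev2 e (ev2 s 11)) (ev2 s (ev2 r 11)))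
    (Nat.beq (ev2 e (ev2 s 2)) (ev2 s (ev2 r 2)))

theorem certB_spec {e s r : ℕ} (h : certB e s r = true) : n2 e * n2 s = n2 s * n2 r := by
  unfold certB at h
  rw [Bool.and_eq_true] at h
  have key : ∀ p < 1782, Nat.beq (ev2 e (ev2 s p)) (ev2 s (ev2 r p)) = true →
      φ (n2 e * n2 s) p = φ (n2 s * n2 r) p := by
    intro p hp hb
    have h1 := Nat.eq_of_beq_eq_true hb
    rw [ev2_eq s hp, ev2_eq e (φ_lt _ hp), ev2_eq r hp, ev2_eq s (φ_lt _ hp)] at h1
    rw [map_mul, map_mul]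
    exact h1
  exact eq_of_key (mul_mem (n2_mem e) (n2_mem s)) (mul_mem (n2_mem s) (n2_mem r))
    (key 11 (by norm_num) h.1) (key 2 (by norm_num) h.2)

theorem certB_conj {e s r : ℕ} (h : certB e s r = true) : n2 s * n2 r * (n2 s)⁻¹ = n2 e := by
  rw [← certB_spec h]; group

noncomputable def ent (e : ℕ) : ℕ := Nat.land (Nat.shiftRight cert (Nat.mul 26 e)) 67108863
noncomputable def eS (e : ℕ) : ℕ := Nat.mod (ent e) 8192
noncomputable def eR (e : ℕ) : ℕ := Nat.div (ent e) 8192

/-- `f` holds for an element of the list. -/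
noncomputable def anyL {α : Type} (f : α → Bool) (l : List α) : Bool :=
  List.rec (motive := fun _ => Bool) false (fun x _ ih => Bool.or (f x) ih) l

/-- `f` holds for all elements of the list. -/
noncomputable def allL {α : Type} (f : α → Bool) (l : List α) : Bool :=
  List.rec (motive := fun _ => Bool) true (fun x _ ih => Bool.and (f x) ih) l

theorem anyL_spec {α : Type} {f : α → Bool} {l : List α} (h : anyL f l = true) :
    ∃ x ∈ l, f x = true := by
  induction l with
  | nil => exact absurd h (by simp [anyL])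
  | cons x l ih =>
    change Bool.or (f x) (anyL f l) = true at h
    rw [Bool.or_eq_true] at h
    rcases h with h | h
    · exact ⟨x, List.mem_cons_self, h⟩
    · obtain ⟨y, hy, hy'⟩ := ih h
      exact ⟨y, List.mem_cons_of_mem _ hy, hy'⟩

theorem allL_spec {α : Type} {f : α → Bool} {l : List α} (h : allL f l = true) :
    ∀ x ∈ l, f x = true := by
  induction l with
  | nil => intro x hx; exact absurd hx (by simp)
  | cons y l ih =>
    change Bool.and (f y) (allL f l) = true at h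
    rw [Bool.and_eq_true] at h
    intro x hx
    rcases List.mem_cons.mp hx with rfl | hx
    · exact h.1
    · exact ih h.2 x hx

/-! ### Fixed points -/

/-- Number of `i` in `[s, s + 2^d)` with `f i`. -/
noncomputable def cntP (f : ℕ → Bool) (d : ℕ) : ℕ → ℕ :=
  Nat.rec (motive := fun _ => ℕ → ℕ) (fun s => Bool.rec 0 1 (f s))
    (fun k ih s => Nat.add (ih s) (ih (Nat.add s (Nat.pow 2 k)))) d

theorem cntP_succ (f : ℕ → Bool) (d s : ℕ) :
    cntP f (d + 1) s = cntP f d s + cntP f d (s + 2 ^ d) := rfl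

theorem cntP_spec (f : ℕ → Bool) (d s : ℕ) :
    cntP f d s = ((Finset.range (2 ^ d)).filter (fun i => f (s + i) = true)).card := by
  induction d generalizing s with
  | zero =>
    change (Bool.rec 0 1 (f s) : ℕ) = _
    rw [pow_zero, Finset.range_one, Finset.filter_singleton]
    simp only [add_zero]
    cases f s <;> simp
  | succ d ih =>
    rw [cntP_succ, ih, ih]
    have h1 : (Finset.range (2 ^ (d + 1))).filter (fun i => f (s + i) = true) =
        (Finset.range (2 ^ d)).filter (fun i => f (s + i) = true) ∪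
          ((Finset.range (2 ^ d)).filter (fun i => f (s + 2 ^ d + i) = true)).image
            (fun i => i + 2 ^ d) := by
      ext i
      simp only [Finset.mem_filter, Finset.mem_range, Finset.mem_union, Finset.mem_image]
      constructor
      · rintro ⟨h2, h3⟩
        by_cases h4 : i < 2 ^ d
        · exact Or.inl ⟨h4, h3⟩
        · refine Or.inr ⟨i - 2 ^ d, ⟨?_, ?_⟩, by omega⟩
          · rw [pow_succ] at h2; omega
          · have : s + 2 ^ d + (i - 2 ^ d) = s + i := by omega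
            rw [this]; exact h3
      · rintro (⟨h2, h3⟩ | ⟨j, ⟨h2, h3⟩, rfl⟩)
        · exact ⟨by rw [pow_succ]; omega, h3⟩
        · refine ⟨by rw [pow_succ]; omega, ?_⟩
          have : s + (j + 2 ^ d) = s + 2 ^ d + j := by omega
          rw [this]; exact h3
    rw [h1, Finset.card_union_of_disjoint, Finset.card_image_of_injective]
    · intro a b hab
      simpa using hab
    · rw [Finset.disjoint_left]
      intro i hi hi'
      simp only [Finset.mem_filter, Finset.mem_range, Finset.mem_image] at hi hi'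
      obtain ⟨j, _, rfl⟩ := hi'
      omega

theorem inv_apply' (f : Equiv.Perm ℕ) (p : ℕ) : f⁻¹ (f p) = p := f.symm_apply_apply p
theorem apply_inv' (f : Equiv.Perm ℕ) (p : ℕ) : f (f⁻¹ p) = p := f.apply_symm_apply p

/-- Number of fixed points. -/
noncomputable def fc (x : Suz) : ℕ := ((Finset.range 1782).filter (fun p => φ x p = p)).card

theorem fc_conj (g x : Suz) : fc (g * x * g⁻¹) = fc x := by
  unfold fc
  symm
  apply Finset.card_bij (fun p _ => φ g p)
  · intro p hp
    rw [Finset.mem_filter, Finset.mem_range] at hp ⊢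
    refine ⟨φ_lt _ hp.1, ?_⟩
    rw [map_mul, map_mul, map_inv, Equiv.Perm.mul_apply, Equiv.Perm.mul_apply,
      inv_apply', hp.2]
  · intro a _ b _ hab
    exact (φ g).injective hab
  · intro p hp
    rw [Finset.mem_filter, Finset.mem_range] at hp
    refine ⟨φ g⁻¹ p, ?_, ?_⟩
    · rw [Finset.mem_filter, Finset.mem_range]
      refine ⟨φ_lt _ hp.1, ?_⟩
      have h1 := hp.2
      rw [map_mul, map_mul, Equiv.Perm.mul_apply, Equiv.Perm.mul_apply] at h1
      have h2 : φ g⁻¹ (φ g (φ x (φ g⁻¹ p))) = φ g⁻¹ p := by rw [h1]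
      rw [map_inv, inv_apply'] at h2
      rw [map_inv]; exact h2
    · rw [map_inv, apply_inv']

noncomputable def cntG (x : Suz.Gen) : ℕ :=
  cntP (fun i => Bool.and (Nat.ble i 1781) (Nat.beq (app (tb x) i) i)) 11 0

theorem fc_gen (x : Suz.Gen) : fc (ge x) = cntG x := by
  rw [cntG, cntP_spec, fc]
  congr 1
  ext i
  simp only [Finset.mem_filter, Finset.mem_range, zero_add, Bool.and_eq_true]
  constructor
  · rintro ⟨h1, h2⟩
    refine ⟨by norm_num; omega, Nat.ble_eq_true_of_le (by omega), ?_⟩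
    rw [rep_gen x i h1, h2, Nat.beq_refl]
  · rintro ⟨h1, h2, h3⟩
    have h4 := Nat.le_of_ble_eq_true h2
    have h5 : i < 1782 := by omega
    refine ⟨h5, ?_⟩
    rw [← rep_gen x i h5]
    exact Nat.eq_of_beq_eq_true h3

theorem cnt_a : cntG .a = 54 := by decide +kernel
theorem cnt_e : cntG .e = 42 := by decide +kernel

theorem nZ' {x : Suz} (h1 : Z (ge .a) x) (h2 : Z (ge .e) x) : False := by
  obtain ⟨g, hg⟩ := h1
  obtain ⟨k, hk⟩ := h2
  have h3 := fc_conj g (ge .a)
  have h4 := fc_conj k (ge .e)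
  rw [hg, fc_gen, cnt_a] at h3
  rw [hk, fc_gen, cnt_e] at h4
  omega

/-! ### Class representatives -/

noncomputable def repB (c : Suz.Gen) (x : ℕ × List Suz.Gen) : Bool :=
  eqB (fun p => ev2 x.1 (pw x.2 p)) (fun p => pw x.2 (app (tb c) p))

theorem repB_spec {c : Suz.Gen} {x : ℕ × List Suz.Gen} (h : repB c x = true) :
    Z (ge c) (n2 x.1) := by
  refine ⟨el x.2, ?_⟩
  have h1 : n2 x.1 * el x.2 = el x.2 * ge c := by
    refine eqB_spec h (fun p hp => ?_) (fun p hp => ?_)
    · rw [pw_eq _ hp, ev2_eq _ (φ_lt _ hp), map_mul, Equiv.Perm.mul_apply]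
    · rw [rep_gen c p hp, pw_eq _ (φ_lt _ hp), map_mul, Equiv.Perm.mul_apply]
  rw [← h1]; group

theorem rA_chk : allL (repB .a) rA = true := by decide +kernel
theorem rB_chk : allL (repB .e) rB = true := by decide +kernel

/-- `r` is the code of a representative. -/
noncomputable def memR (l : List (ℕ × List Suz.Gen)) (r : ℕ) : Bool :=
  anyL (fun x => Nat.beq x.1 r) l

theorem memR_spec {l : List (ℕ × List Suz.Gen)} {r : ℕ} (h : memR l r = true) :
    ∃ x ∈ l, x.1 = r := by
  obtain ⟨x, hx, hx'⟩ := anyL_spec h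
  exact ⟨x, hx, Nat.eq_of_beq_eq_true hx'⟩

/-- `e` is the code of an element of class 2A. -/
noncomputable def memA (e : ℕ) : Bool := anyL (fun c => Nat.beq (Nat.mod c 8192) e) lA
/-- `k` is the key of an element of class 2A. -/
noncomputable def memK (k : ℕ) : Bool := anyL (fun c => Nat.beq (Nat.div c 8192) k) lA

theorem memA_spec {e : ℕ} (h : memA e = true) : ∃ c ∈ lA, c % 8192 = e := by
  obtain ⟨x, hx, hx'⟩ := anyL_spec h
  exact ⟨x, hx, Nat.eq_of_beq_eq_true hx'⟩

theorem memK_spec {e : ℕ} (h : memK e = true) : ∃ c ∈ lA, c / 8192 = e := by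
  obtain ⟨x, hx, hx'⟩ := anyL_spec h
  exact ⟨x, hx, Nat.eq_of_beq_eq_true hx'⟩

noncomputable def key2 (r e : ℕ) : ℕ :=
  Nat.add (Nat.mul (ev2 r (ev2 e 11)) 4096) (ev2 r (ev2 e 2))

noncomputable def key1 (e : ℕ) : ℕ := Nat.add (Nat.mul (ev2 e 11) 4096) (ev2 e 2)

/-- Check of an element of class 2A. -/
noncomputable def chkA (c : ℕ) : Bool :=
  Bool.and (Nat.beq (key1 (Nat.mod c 8192)) (Nat.div c 8192))
    (Bool.and (memR rA (eR (Nat.mod c 8192)))
      (certB (Nat.mod c 8192) (eS (Nat.mod c 8192)) (eR (Nat.mod c 8192))))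

theorem lA_chk : allL chkA lA = true := by decide +kernel

/-- Classification of the codes. -/
noncomputable def chkI (e : ℕ) : Bool :=
  Bool.or (Nat.beq e 0) (Bool.or (Bool.not (Nat.beq (ev2 e (ev2 e 11)) 11))
    (Bool.or (Bool.not (Nat.beq (ev2 e (ev2 e 2)) 2))
      (Bool.or (memA e) (Bool.and (memR rB (eR e)) (certB e (eS e) (eR e))))))

theorem chkI_all : allP chkI 13 0 = true := by decide +kernel

theorem A_key {c : ℕ} (hc : c ∈ lA) : key1 (c % 8192) = c / 8192 := by
  have h := allL_spec lA_chk c hc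
  unfold chkA at h
  rw [Bool.and_eq_true] at h
  exact Nat.eq_of_beq_eq_true h.1

theorem A_rep {c : ℕ} (hc : c ∈ lA) : ∃ x ∈ rA, ∃ s, n2 s * n2 x.1 * (n2 s)⁻¹ = n2 (c % 8192) := by
  have h := allL_spec lA_chk c hc
  unfold chkA at h
  rw [Bool.and_eq_true, Bool.and_eq_true] at h
  obtain ⟨x, hx, hx'⟩ := memR_spec h.2.1
  refine ⟨x, hx, eS (c % 8192), ?_⟩
  rw [hx']
  exact certB_conj h.2.2

theorem A_Z {c : ℕ} (hc : c ∈ lA) : Z (ge .a) (n2 (c % 8192)) := by
  obtain ⟨x, hx, s, hs⟩ := A_rep hc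
  rw [← hs]
  exact (repB_spec (allL_spec rA_chk x hx)).conj _

/-- Involutions of `T`. -/
theorem inv_cases {x : Suz} (hx : x ∈ T) (hxx : x * x = 1) (hx1 : x ≠ 1) :
    (∃ c ∈ lA, n2 (c % 8192) = x) ∨ Z (ge .e) x := by
  obtain ⟨e, he, rfl⟩ := exists_n2 hx
  have h := allP_spec0 chkI_all he
  unfold chkI at h
  rw [Bool.or_eq_true, Bool.or_eq_true, Bool.or_eq_true, Bool.or_eq_true, Bool.and_eq_true] at h
  have key : ∀ p < 1782, ev2 e (ev2 e p) = p := by
    intro p hp
    rw [ev2_eq e hp, ev2_eq e (φ_lt _ hp), ← Equiv.Perm.mul_apply, ← map_mul, hxx, map_one]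
    rfl
  rcases h with h | h | h | h | h
  · exfalso
    apply hx1
    have := Nat.eq_of_beq_eq_true h
    subst this
    simp [n2, gs, nf]
  · rw [key 11 (by norm_num)] at h
    exact absurd h (by decide)
  · rw [key 2 (by norm_num)] at h
    exact absurd h (by decide)
  · obtain ⟨c, hc, hce⟩ := memA_spec h
    exact Or.inl ⟨c, hc, by rw [hce]⟩
  · right
    obtain ⟨x, hx, hx'⟩ := memR_spec h.1
    rw [← certB_conj h.2, ← hx']
    exact (repB_spec (allL_spec rB_chk x hx)).conj _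

theorem isPGroup_of_sq {H : Subgroup Suz} (h : ∀ x ∈ H, x * x = 1) : IsPGroup 2 H := by
  rintro ⟨x, hx⟩
  refine ⟨1, Subtype.ext ?_⟩
  simpa [pow_two] using h x hx

theorem two (t : Suz) (ht : t * t = 1) (ht1 : t ≠ 1) : Z (ge .a) t ∨ Z (ge .e) t := by
  obtain ⟨g, hg⟩ := conj_T (cl [t, t]) (isPGroup_of_sq (sq_of_mem_cl_pair ht ht rfl))
  have hx := hg t (mem_cl_of_mem (by simp))
  have hxx : (g * t * g⁻¹) * (g * t * g⁻¹) = 1 := by
    calc (g * t * g⁻¹) * (g * t * g⁻¹) = g * (t * t) * g⁻¹ := by group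
      _ = 1 := by rw [ht]; group
  have hx1 : g * t * g⁻¹ ≠ 1 := by
    intro h
    apply ht1
    have : t = g⁻¹ * (g * t * g⁻¹) * g := by group
    rw [this, h]; group
  rcases inv_cases hx hxx hx1 with ⟨c, hc, hc'⟩ | h
  · left
    apply Z.of_conj g
    rw [← hc']
    exact A_Z hc
  · right
    exact Z.of_conj g h

/-! ### Commuting conjugates of `a` -/

/-- For a representative `r` and an element `e` of class 2A. -/
noncomputable def chkC1 (r e : ℕ) : Bool :=
  Bool.or (Nat.beq r e) (Bool.or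
    (Bool.not (Bool.and (Nat.beq (ev2 r (ev2 e 11)) (ev2 e (ev2 r 11)))
      (Nat.beq (ev2 r (ev2 e 2)) (ev2 e (ev2 r 2))))) (memK (key2 r e)))

theorem chkC : allL (fun x => allL (fun c => chkC1 x.1 (Nat.mod c 8192)) lA) rA = true := by
  decide +kernel

theorem comm (x y : Suz) (hx : Z (ge .a) x) (hy : Z (ge .a) y) (hne : x ≠ y)
    (hxy : x * y = y * x) : Z (ge .a) (x * y) := by
  have haa : ge .a * ge .a = 1 := by
    have h1 : el [.a, .a] = el [] := el_eq (by decide +kernel)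
    simpa [el_cons, el_nil] using h1
  have ha1 : ge .a ≠ 1 := by
    intro h1
    have h2 := fc_gen .a
    rw [cnt_a, h1, fc] at h2
    simp at h2
  have hsq : ∀ x, Z (ge .a) x → x * x = 1 ∧ x ≠ 1 := by
    rintro x ⟨g, rfl⟩
    constructor
    · calc (g * ge .a * g⁻¹) * (g * ge .a * g⁻¹) = g * (ge .a * ge .a) * g⁻¹ := by group
        _ = 1 := by rw [haa]; group
    · intro h
      apply ha1
      have : ge .a = g⁻¹ * (g * ge .a * g⁻¹) * g := by group
      rw [this, h]; group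
  obtain ⟨g, hg⟩ := conj_T (cl [x, y])
    (isPGroup_of_sq (sq_of_mem_cl_pair (hsq x hx).1 (hsq y hy).1 hxy))
  have hxT := hg x (mem_cl_of_mem (by simp))
  have hyT := hg y (mem_cl_of_mem (by simp))
  have hcase : ∀ x ∈ T, Z (ge .a) x → ∃ c ∈ lA, n2 (c % 8192) = x := by
    intro x hxT hx
    rcases inv_cases hxT (hsq x hx).1 (hsq x hx).2 with h | h
    · exact h
    · exact (nZ' hx h).elim
  obtain ⟨c₁, hc₁, hx1⟩ := hcase _ hxT (hx.conj g)
  obtain ⟨r, hr, s, hs⟩ := A_rep hc₁
  set k := (n2 s)⁻¹ * g with hk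
  have hxk : k * x * k⁻¹ = n2 r.1 := by
    have h1 : n2 r.1 = (n2 s)⁻¹ * (n2 s * n2 r.1 * (n2 s)⁻¹) * n2 s := by group
    rw [h1, hs, hx1, hk]; group
  have hykT : k * y * k⁻¹ ∈ T := by
    have : k * y * k⁻¹ = (n2 s)⁻¹ * (g * y * g⁻¹) * n2 s := by rw [hk]; group
    rw [this]
    exact mul_mem (mul_mem (inv_mem (n2_mem s)) hyT) (n2_mem s)
  obtain ⟨c₂, hc₂, hyk⟩ := hcase _ hykT (hy.conj k)
  have h := allL_spec (allL_spec chkC r hr) c₂ hc₂
  unfold chkC1 at h
  rw [Bool.or_eq_true, Bool.or_eq_true] at h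
  change _ ∨ _ ∨ memK (key2 r.1 (c₂ % 8192)) = true at h
  have hcomm : n2 r.1 * n2 (c₂ % 8192) = n2 (c₂ % 8192) * n2 r.1 := by
    rw [hyk, ← hxk]
    calc k * x * k⁻¹ * (k * y * k⁻¹) = k * (x * y) * k⁻¹ := by group
      _ = k * y * k⁻¹ * (k * x * k⁻¹) := by rw [hxy]; group
  have hcp : ∀ p < 1782, Nat.beq (ev2 r.1 (ev2 (c₂ % 8192) p)) (ev2 (c₂ % 8192) (ev2 r.1 p)) =
      true := by
    intro p hp
    rw [ev2_eq _ hp, ev2_eq _ (φ_lt _ hp), ev2_eq _ hp, ev2_eq _ (φ_lt _ hp),
      ← Equiv.Perm.mul_apply, ← Equiv.Perm.mul_apply, ← map_mul, ← map_mul, hcomm, Nat.beq_refl]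
  apply Z.of_conj k
  have hprod : k * (x * y) * k⁻¹ = n2 r.1 * n2 (c₂ % 8192) := by
    rw [hyk, ← hxk]; group
  rw [hprod]
  rcases h with h | h | h
  · exfalso
    apply hne
    have h1 : r.1 = c₂ % 8192 := Nat.eq_of_beq_eq_true h
    have h2 : k * x * k⁻¹ = k * y * k⁻¹ := by rw [hxk, ← hyk, h1]
    exact mul_left_cancel (mul_right_cancel h2)
  · exfalso
    have h1 := hcp 11 (by norm_num)
    have h2 := hcp 2 (by norm_num)
    change Bool.not (Bool.and (Nat.beq (ev2 r.1 (ev2 (c₂ % 8192) 11))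
      (ev2 (c₂ % 8192) (ev2 r.1 11))) (Nat.beq (ev2 r.1 (ev2 (c₂ % 8192) 2))
        (ev2 (c₂ % 8192) (ev2 r.1 2)))) = true at h
    rw [h1, h2] at h
    exact absurd h (by decide)
  · obtain ⟨c₃, hc₃, hc₃'⟩ := memK_spec h
    have h1 := A_key hc₃
    rw [hc₃'] at h1
    change ev2 (c₃ % 8192) 11 * 4096 + ev2 (c₃ % 8192) 2 =
      ev2 r.1 (ev2 (c₂ % 8192) 11) * 4096 + ev2 r.1 (ev2 (c₂ % 8192) 2) at h1
    rw [ev2_eq (c₃ % 8192) (p := 11) (by norm_num), ev2_eq (c₃ % 8192) (p := 2) (by norm_num),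
      ev2_eq (c₂ % 8192) (p := 11) (by norm_num), ev2_eq (c₂ % 8192) (p := 2) (by norm_num),
      ev2_eq r.1 (φ_lt _ (by norm_num)), ev2_eq r.1 (φ_lt _ (by norm_num)),
      ← Equiv.Perm.mul_apply, ← Equiv.Perm.mul_apply, ← map_mul] at h1
    have b1 : φ (n2 (c₃ % 8192)) 2 < 1782 := φ_lt _ (by norm_num)
    have b2 : φ (n2 r.1 * n2 (c₂ % 8192)) 2 < 1782 := φ_lt _ (by norm_num)
    have h2 : n2 (c₃ % 8192) = n2 r.1 * n2 (c₂ % 8192) := by
      apply eq_of_key (n2_mem _) (mul_mem (n2_mem _) (n2_mem _))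
      · omega
      · omega
    rw [← h2]
    exact A_Z hc₃

end Cfsg.Agent.SporRec.SuzM.T
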