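import Cfsg.Agent.SporRec.SuzM.PData
import Cfsg.Agent.SporRec.SuzM.T

/-!
A Sylow 3-subgroup of the Suzuki group and its elements of order 3.
-/

set_option autoImplicit false
set_option maxRecDepth 100000
set_option linter.dupNamespace false
set_option linter.constructorNameAsVariable false

namespace Cfsg.Agent.SporRec.SuzM.P

open Cfsg.Spor Cfsg.Agent.SporadicRecognition.SuzPhi
  Cfsg.Agent.SporadicRecognition.SuzOrder Cfsg.Agent.SporRec.PcEnum Cfsg.Agent.SporRec.SuzM.Tab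
  Cfsg.Agent.SporRec.SuzM.PData Cfsg.Agent.SporRec.ClosingSuz Cfsg.Agent.SporRec.SuzM.T

noncomputable def gs : List Suz := [el PData.w0, el PData.w1, el PData.w2, el PData.w3, el PData.w4,
  el PData.w5, el PData.w6]

noncomputable def gsE : List Suz := [el PData.w2, el PData.w3, el PData.w4, el PData.w5,
  el PData.w6]

theorem rep0 : Rep PData.t0 (el PData.w0) := rep_of_chkTab (by decide +kernel)
theorem rep1 : Rep PData.t1 (el PData.w1) := rep_of_chkTab (by decide +kernel)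
theorem rep2 : Rep PData.t2 (el PData.w2) := rep_of_chkTab (by decide +kernel)
theorem rep3 : Rep PData.t3 (el PData.w3) := rep_of_chkTab (by decide +kernel)
theorem rep4 : Rep PData.t4 (el PData.w4) := rep_of_chkTab (by decide +kernel)
theorem rep5 : Rep PData.t5 (el PData.w5) := rep_of_chkTab (by decide +kernel)
theorem rep6 : Rep PData.t6 (el PData.w6) := rep_of_chkTab (by decide +kernel)

theorem rep_ts : List.Forall₂ Rep PData.ts P.gs :=
  .cons P.rep0 (.cons P.rep1 (.cons P.rep2 (.cons P.rep3 (.cons P.rep4 (.cons P.rep5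
    (.cons P.rep6 .nil))))))

theorem pc : PC 3 P.gs := pcB_spec P.rep_ts PData.rels (by decide +kernel)

theorem pcE : PC 3 gsE := P.pc.1.1

/-- The Sylow 3-subgroup. -/
noncomputable def P7 : Subgroup Suz := cl P.gs
/-- The elementary abelian subgroup of order `3 ^ 5`. -/
noncomputable def E5 : Subgroup Suz := cl gsE

/-- Image of a point under the element with code `e`. -/
noncomputable def ev3 (e p : ℕ) : ℕ := ev 3 PData.ts e p

/-- The element with code `e`. -/
noncomputable def n3 (e : ℕ) : Suz := nf 3 P.gs e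

theorem ev3_eq (e : ℕ) {p : ℕ} (hp : p < 1782) : ev3 e p = φ (n3 e) p := ev_eq 3 P.rep_ts e hp

theorem n3_mem (e : ℕ) : n3 e ∈ P7 := nf_mem 3 P.gs e

theorem exists_n3 {x : Suz} (hx : x ∈ P7) : ∃ e < 2187, n3 e = x :=
  P.pc.exists_nf (by norm_num) x hx

theorem EP : E5 ≤ P7 := (cl_cons_le _ _).trans (cl_cons_le _ _)

theorem n3_nine (e : ℕ) : n3 (9 * e) = nf 3 gsE e := by
  have h1 : (9 * e) % 3 = 0 := by omega
  have h2 : (9 * e) / 3 = 3 * e := by omega
  have h3 : (3 * e) % 3 = 0 := by omega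
  have h4 : (3 * e) / 3 = e := by omega
  change nf 3 (el PData.w0 :: el PData.w1 :: gsE) (9 * e) = _
  rw [nf_cons, nf_cons, h1, h2, h3, h4, pow_zero, pow_zero, one_mul, one_mul]

theorem exists_nE {x : Suz} (hx : x ∈ E5) : ∃ e < 243, n3 (9 * e) = x := by
  obtain ⟨e, he, hx'⟩ := pcE.exists_nf (by norm_num) x hx
  exact ⟨e, he, by rw [n3_nine, hx']⟩

theorem nE_mem (e : ℕ) : n3 (9 * e) ∈ E5 := by
  rw [n3_nine]; exact nf_mem 3 gsE e

noncomputable def faithB : Bool :=
  allP (fun e => Bool.or (Nat.beq e 0) (Bool.or (Nat.ble 2187 e)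
    (Bool.not (Bool.and (Nat.beq (ev3 e 0) 0) (Nat.beq (ev3 e 4) 4))))) 12 0

theorem faith_chk : P.faithB = true := by decide +kernel

theorem faith {e : ℕ} (he : e < 2187) (h0 : φ (n3 e) 0 = 0) (h4 : φ (n3 e) 4 = 4) :
    e = 0 := by
  have h := allP_spec0 P.faith_chk (i := e) (by norm_num; omega)
  rw [Bool.or_eq_true, Bool.or_eq_true] at h
  rcases h with h | h | h
  · exact Nat.eq_of_beq_eq_true h
  · have := Nat.le_of_ble_eq_true h
    omega
  · exfalso
    rw [ev3_eq e (by norm_num), ev3_eq e (by norm_num), h0, h4] at h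
    exact absurd h (by decide)

theorem n3_one {e : ℕ} (he : e < 2187) (h : n3 e = 1) : e = 0 := by
  apply P.faith he
  · rw [h, map_one]; rfl
  · rw [h, map_one]; rfl

theorem card_P : Nat.card P7 = 3 ^ 7 := P.pc.card (by norm_num) (fun _ he h => n3_one he h)

theorem card_E : Nat.card E5 = 3 ^ 5 := by
  refine pcE.card (by norm_num) (fun e he h => ?_)
  rw [← n3_nine] at h
  have he' : e < 243 := he
  have := n3_one (by omega) h
  omega

theorem eq_of_key {x y : Suz} (hx : x ∈ P7) (hy : y ∈ P7) (h0 : φ x 0 = φ y 0)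
    (h4 : φ x 4 = φ y 4) : x = y := by
  obtain ⟨e, he, hex⟩ := exists_n3 (mul_mem (inv_mem hy) hx)
  have key : ∀ q, φ x q = φ y q → φ (y⁻¹ * x) q = q := by
    intro q hq
    rw [map_mul, Equiv.Perm.mul_apply, hq, map_inv]
    simp
  have h1 : e = 0 := P.faith he (by rw [hex]; exact key _ h0) (by rw [hex]; exact key _ h4)
  subst h1
  have h3 : n3 0 = 1 := by simp [n3, P.gs, nf]
  rw [h3] at hex
  exact (inv_mul_eq_one.mp hex.symm).symm

theorem fac3 : (448345497600 : ℕ).factorization 3 = 7 :=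
  factorization_eq (p := 3) (k := 7) (m := 205004800) Nat.prime_three
    (by norm_num) (by norm_num)

theorem conj_P (H : Subgroup Suz) (hH : IsPGroup 3 H) : ∃ g : Suz, ∀ h ∈ H, g * h * g⁻¹ ∈ P7 := by
  have := finiteSuz
  have : Fact (Nat.Prime 3) := ⟨Nat.prime_three⟩
  apply exists_conj_mem 3 P7 _ H hH
  rw [card_P, card_Suz, fac3]

/-! ### Centralised and inverted elements -/

/-- `x` is inverted by a conjugate of `a`. -/
def Inv (x : Suz) : Prop := ∃ d : Suz, Z (ge .a) d ∧ d * x * d⁻¹ = x⁻¹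

/-- `x` is centralised by a conjugate of `a`. -/
def Cen (x : Suz) : Prop := ∃ d : Suz, Z (ge .a) d ∧ d * x = x * d

theorem Inv.conj {x : Suz} (h : Inv x) (g : Suz) : Inv (g * x * g⁻¹) := by
  obtain ⟨d, hd, hdx⟩ := h
  refine ⟨g * d * g⁻¹, hd.conj g, ?_⟩
  calc g * d * g⁻¹ * (g * x * g⁻¹) * (g * d * g⁻¹)⁻¹ = g * (d * x * d⁻¹) * g⁻¹ := by group
    _ = (g * x * g⁻¹)⁻¹ := by rw [hdx]; group

theorem Inv.inv {x : Suz} (h : Inv x) : Inv x⁻¹ := by
  obtain ⟨d, hd, hdx⟩ := h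
  refine ⟨d, hd, ?_⟩
  calc d * x⁻¹ * d⁻¹ = (d * x * d⁻¹)⁻¹ := by group
    _ = x⁻¹⁻¹ := by rw [hdx]

theorem Cen.conj {x : Suz} (h : Cen x) (g : Suz) : Cen (g * x * g⁻¹) := by
  obtain ⟨d, hd, hdx⟩ := h
  refine ⟨g * d * g⁻¹, hd.conj g, ?_⟩
  calc g * d * g⁻¹ * (g * x * g⁻¹) = g * (d * x) * g⁻¹ := by group
    _ = g * x * g⁻¹ * (g * d * g⁻¹) := by rw [hdx]; group

theorem Cen.inv {x : Suz} (h : Cen x) : Cen x⁻¹ := by
  obtain ⟨d, hd, hdx⟩ := h
  refine ⟨d, hd, ?_⟩
  calc d * x⁻¹ = x⁻¹ * (x * d) * x⁻¹ := by group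
    _ = x⁻¹ * d := by rw [← hdx]; group

theorem ge_sq (x : Suz.Gen) : ge x * ge x = 1 := by
  have h1 : eqB (pw [x, x]) (pw []) = true := by cases x <;> decide +kernel
  have h2 := el_eq h1
  simpa [el_cons, el_nil] using h2

theorem el_reverse (w : List Suz.Gen) : el w.reverse = (el w)⁻¹ := by
  induction w with
  | nil => simp [el_nil]
  | cons x w ih =>
    rw [List.reverse_cons, el_append, ih, el_cons, el_cons, el_nil, mul_one, mul_inv_rev]
    congr 1
    exact (inv_eq_of_mul_eq_one_left (ge_sq x)).symm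

/-- Image of a point under the conjugate of `a` by a word. -/
noncomputable def dw (h : List Suz.Gen) (p : ℕ) : ℕ := pw h (app (tb .a) (pw h.reverse p))

theorem dw_eq (h : List Suz.Gen) {p : ℕ} (hp : p < 1782) :
    dw h p = φ (el h * ge .a * (el h)⁻¹) p := by
  unfold dw
  rw [pw_eq _ hp, rep_gen .a _ (φ_lt _ hp), pw_eq _ (φ_lt _ (φ_lt _ hp)), el_reverse, map_mul,
    map_mul, Equiv.Perm.mul_apply, Equiv.Perm.mul_apply]

/-- Check that the element with code `x.1` is inverted by the conjugate of `a`. -/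
noncomputable def chkInv (x : ℕ × List Suz.Gen) : Bool :=
  eqB (fun p => dw x.2 (ev3 x.1 (dw x.2 (ev3 x.1 p)))) (fun p => p)

/-- Check that the element with code `x.1` is centralised by the conjugate of `a`. -/
noncomputable def chkCen (x : ℕ × List Suz.Gen) : Bool :=
  eqB (fun p => dw x.2 (ev3 x.1 p)) (fun p => ev3 x.1 (dw x.2 p))

theorem rI_chk : allL chkInv PData.rI = true := by decide +kernel
theorem rC_chk : allL chkCen PData.rC = true := by decide +kernel

theorem rI_Inv {x : ℕ × List Suz.Gen} (hx : x ∈ PData.rI) : Inv (n3 x.1) := by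
  have h := allL_spec rI_chk x hx
  set d := el x.2 * ge .a * (el x.2)⁻¹ with hd
  have h1 : d * n3 x.1 * (d * n3 x.1) = 1 := by
    refine eqB_spec h (fun p hp => ?_) (fun p _ => ?_)
    · rw [ev3_eq _ hp, dw_eq _ (φ_lt _ hp), ev3_eq _ (φ_lt _ (φ_lt _ hp)),
        dw_eq _ (φ_lt _ (φ_lt _ (φ_lt _ hp)))]
      simp only [map_mul, Equiv.Perm.mul_apply, hd]
    · rw [map_one]; rfl
  have hdd : d * d = 1 := by
    calc d * d = el x.2 * (ge .a * ge .a) * (el x.2)⁻¹ := by rw [hd]; group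
      _ = 1 := by rw [ge_sq]; group
  have hdi : d⁻¹ = d := inv_eq_of_mul_eq_one_left hdd
  refine ⟨d, ⟨el x.2, rfl⟩, ?_⟩
  rw [hdi]
  rw [eq_comm, inv_eq_iff_mul_eq_one]
  calc n3 x.1 * (d * n3 x.1 * d) = d⁻¹ * (d * n3 x.1 * (d * n3 x.1)) * d := by group
    _ = 1 := by rw [h1]; group

theorem rC_Cen {x : ℕ × List Suz.Gen} (hx : x ∈ PData.rC) : Cen (n3 x.1) := by
  have h := allL_spec rC_chk x hx
  set d := el x.2 * ge .a * (el x.2)⁻¹ with hd
  refine ⟨d, ⟨el x.2, rfl⟩, ?_⟩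
  refine eqB_spec h (fun p hp => ?_) (fun p hp => ?_)
  · rw [ev3_eq _ hp, dw_eq _ (φ_lt _ hp), map_mul φ d (n3 x.1)]; rfl
  · rw [dw_eq _ hp, ev3_eq _ (φ_lt _ hp), map_mul φ (n3 x.1) d]; rfl

/-- The element of class 3A. -/
noncomputable def τ : Suz := el [.d, .e]

noncomputable def chk3A (x : ℕ × List Suz.Gen) : Bool :=
  eqB (fun p => ev3 x.1 (pw x.2 p)) (fun p => pw x.2 (pw [.d, .e] p))

theorem rA_chk : allL chk3A PData.rA = true := by decide +kernel

theorem rA_Z {x : ℕ × List Suz.Gen} (hx : x ∈ PData.rA) : Z τ (n3 x.1) := by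
  have h := allL_spec P.rA_chk x hx
  refine ⟨el x.2, ?_⟩
  have h1 : n3 x.1 * el x.2 = el x.2 * τ := by
    refine eqB_spec h (fun p hp => ?_) (fun p hp => ?_)
    · rw [pw_eq _ hp, ev3_eq _ (φ_lt _ hp), map_mul, Equiv.Perm.mul_apply]
    · rw [pw_eq [.d, .e] hp, pw_eq _ (φ_lt _ hp), map_mul, Equiv.Perm.mul_apply]; rfl
  rw [← h1]; group

/-! ### Certificates -/

noncomputable def certP (e s r : ℕ) : Bool :=
  Bool.and (Nat.beq (ev3 e (ev3 s 0)) (ev3 s (ev3 r 0)))
    (Nat.beq (ev3 e (ev3 s 4)) (ev3 s (ev3 r 4)))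

noncomputable def certN (e s r : ℕ) : Bool :=
  Bool.and (Nat.beq (ev3 e (ev3 s (ev3 r 0))) (ev3 s 0))
    (Nat.beq (ev3 e (ev3 s (ev3 r 4))) (ev3 s 4))

theorem certP_spec {e s r : ℕ} (h : certP e s r = true) : n3 s * n3 r * (n3 s)⁻¹ = n3 e := by
  unfold certP at h
  rw [Bool.and_eq_true] at h
  have key : ∀ p < 1782, Nat.beq (ev3 e (ev3 s p)) (ev3 s (ev3 r p)) = true →
      φ (n3 e * n3 s) p = φ (n3 s * n3 r) p := by
    intro p hp hb
    have h1 := Nat.eq_of_beq_eq_true hb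
    rw [ev3_eq s hp, ev3_eq e (φ_lt _ hp), ev3_eq r hp, ev3_eq s (φ_lt _ hp)] at h1
    rw [map_mul, map_mul]
    exact h1
  rw [← P.eq_of_key (mul_mem (n3_mem e) (n3_mem s)) (mul_mem (n3_mem s) (n3_mem r))
    (key 0 (by norm_num) h.1) (key 4 (by norm_num) h.2)]
  group

theorem certN_spec {e s r : ℕ} (h : certN e s r = true) : n3 s * (n3 r)⁻¹ * (n3 s)⁻¹ = n3 e := by
  unfold certN at h
  rw [Bool.and_eq_true] at h
  have key : ∀ p < 1782, Nat.beq (ev3 e (ev3 s (ev3 r p))) (ev3 s p) = true →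
      φ (n3 e * (n3 s * n3 r)) p = φ (n3 s) p := by
    intro p hp hb
    have h1 := Nat.eq_of_beq_eq_true hb
    rw [ev3_eq r hp, ev3_eq s (φ_lt _ hp), ev3_eq e (φ_lt _ (φ_lt _ hp)), ev3_eq s hp] at h1
    rw [map_mul, map_mul]
    exact h1
  have h1 := P.eq_of_key (mul_mem (n3_mem e) (mul_mem (n3_mem s) (n3_mem r))) (n3_mem s)
    (key 0 (by norm_num) h.1) (key 4 (by norm_num) h.2)
  calc n3 s * (n3 r)⁻¹ * (n3 s)⁻¹ = n3 e * (n3 s * n3 r) * (n3 r)⁻¹ * (n3 s)⁻¹ := by rw [h1]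
    _ = n3 e := by group

noncomputable def ent (e : ℕ) : ℕ := Nat.land (Nat.shiftRight PData.cert (Nat.mul 26 e)) 67108863
noncomputable def eS (e : ℕ) : ℕ := Nat.land (P.ent e) 4095
noncomputable def eR (e : ℕ) : ℕ := Nat.land (Nat.shiftRight (P.ent e) 12) 4095

noncomputable def certB (e : ℕ) : Bool :=
  Bool.or (certP e (P.eS e) (P.eR e)) (certN e (P.eS e) (P.eR e))

theorem certB_spec {e : ℕ} (h : P.certB e = true) :
    n3 (P.eS e) * n3 (P.eR e) * (n3 (P.eS e))⁻¹ = n3 e ∨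
      n3 (P.eS e) * (n3 (P.eR e))⁻¹ * (n3 (P.eS e))⁻¹ = n3 e := by
  unfold P.certB at h
  rw [Bool.or_eq_true] at h
  rcases h with h | h
  · exact Or.inl (certP_spec h)
  · exact Or.inr (certN_spec h)

theorem certB_Inv {e : ℕ} (h : P.certB e = true) (hr : memR PData.rI (P.eR e) = true) :
    Inv (n3 e) := by
  obtain ⟨x, hx, hx'⟩ := memR_spec hr
  have h1 := rI_Inv hx
  rw [hx'] at h1
  rcases P.certB_spec h with h2 | h2
  · rw [← h2]; exact h1.conj _
  · rw [← h2]; exact h1.inv.conj _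

theorem certB_Cen {e : ℕ} (h : P.certB e = true) (hr : memR PData.rC (P.eR e) = true) :
    Cen (n3 e) := by
  obtain ⟨x, hx, hx'⟩ := memR_spec hr
  have h1 := rC_Cen hx
  rw [hx'] at h1
  rcases P.certB_spec h with h2 | h2
  · rw [← h2]; exact h1.conj _
  · rw [← h2]; exact h1.inv.conj _

theorem certB_A {e : ℕ} (h : P.certB e = true) (hr : memR PData.rA (P.eR e) = true) :
    Z τ (n3 e) ∨ Z τ⁻¹ (n3 e) := by
  obtain ⟨x, hx, hx'⟩ := memR_spec hr
  have h1 := rA_Z hx
  rw [hx'] at h1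
  rcases P.certB_spec h with h2 | h2
  · left; rw [← h2]; exact h1.conj _
  · right
    rw [← h2]
    apply Z.conj
    obtain ⟨g, hg⟩ := h1
    exact ⟨g, by rw [← hg]; group⟩

/-- Classification of the codes. -/
noncomputable def chkT (e : ℕ) : Bool :=
  Bool.or (Nat.beq e 0) (Bool.or (Nat.ble 2187 e)
    (Bool.or (Bool.not (Nat.beq (ev3 e (ev3 e (ev3 e 0))) 0))
    (Bool.or (Bool.not (Nat.beq (ev3 e (ev3 e (ev3 e 4))) 4))
      (Bool.and (Bool.or (memR PData.rA (P.eR e)) (memR PData.rI (P.eR e))) (P.certB e)))))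

theorem chkT_all : allP chkT 12 0 = true := by decide +kernel

/-- Elements of order 3 of `P7`. -/
theorem three_cases {x : Suz} (hx : x ∈ P7) (hxx : x ^ 3 = 1) (hx1 : x ≠ 1) :
    Z τ x ∨ Z τ⁻¹ x ∨ Inv x := by
  obtain ⟨e, he, rfl⟩ := exists_n3 hx
  have h := allP_spec0 chkT_all (i := e) (by norm_num; omega)
  unfold chkT at h
  rw [Bool.or_eq_true, Bool.or_eq_true, Bool.or_eq_true, Bool.or_eq_true, Bool.and_eq_true,
    Bool.or_eq_true] at h
  have hxx' : n3 e * (n3 e * n3 e) = 1 := by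
    rw [← hxx, pow_succ, pow_two, mul_assoc]
  have key : ∀ p < 1782, ev3 e (ev3 e (ev3 e p)) = p := by
    intro p hp
    rw [ev3_eq e hp, ev3_eq e (φ_lt _ hp), ev3_eq e (φ_lt _ (φ_lt _ hp)),
      ← Equiv.Perm.mul_apply, ← Equiv.Perm.mul_apply, ← map_mul, ← map_mul, mul_assoc, hxx',
      map_one]
    rfl
  rcases h with h | h | h | h | ⟨h | h, hc⟩
  · exfalso
    apply hx1
    have := Nat.eq_of_beq_eq_true h
    subst this
    simp [n3, P.gs, nf]
  · have := Nat.le_of_ble_eq_true h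
    omega
  · rw [key 0 (by norm_num)] at h
    exact absurd h (by decide)
  · rw [key 4 (by norm_num)] at h
    exact absurd h (by decide)
  · rcases certB_A hc h with h | h
    · exact Or.inl h
    · exact Or.inr (Or.inl h)
  · exact Or.inr (Or.inr (certB_Inv hc h))

theorem cls (t : Suz) (ht : t ^ 3 = 1) (ht1 : t ≠ 1) : Z τ t ∨ Z τ⁻¹ t ∨ Inv t := by
  have hp : IsPGroup 3 (Subgroup.zpowers t) := by
    rintro ⟨x, hx⟩
    obtain ⟨j, rfl⟩ := Subgroup.mem_zpowers_iff.mp hx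
    refine ⟨1, Subtype.ext ?_⟩
    change (t ^ j) ^ 3 ^ 1 = 1
    rw [pow_one, ← zpow_natCast, ← zpow_mul, mul_comm, zpow_mul, zpow_natCast, ht, one_zpow]
  obtain ⟨g, hg⟩ := conj_P _ hp
  have hx := hg t (Subgroup.mem_zpowers t)
  have hxx : (g * t * g⁻¹) ^ 3 = 1 := by
    rw [conj_pow, ht]; group
  have hx1 : g * t * g⁻¹ ≠ 1 := by
    intro h
    apply ht1
    have : t = g⁻¹ * (g * t * g⁻¹) * g := by group
    rw [this, h]; group
  rcases three_cases hx hxx hx1 with h | h | h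
  · exact Or.inl (h.of_conj g)
  · exact Or.inr (Or.inl (h.of_conj g))
  · right; right
    have := h.conj g⁻¹
    have e : g⁻¹ * (g * t * g⁻¹) * g⁻¹⁻¹ = t := by group
    rwa [e] at this

/-! ### The subgroup `E5` -/

noncomputable def memA (e : ℕ) : Bool := anyL (fun c => Nat.beq (Nat.land c 4095) e) PData.lA
noncomputable def memK (k : ℕ) : Bool := anyL (fun c => Nat.beq (Nat.shiftRight c 12) k) PData.lA

noncomputable def chkE (e : ℕ) : Bool :=
  Bool.or (Nat.beq e 0) (Bool.or (Nat.ble 243 e)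
    (Bool.and (P.certB (Nat.mul 9 e)) (Bool.and (memR PData.rC (P.eR (Nat.mul 9 e)))
      (Bool.or (P.memA (Nat.mul 9 e)) (memR PData.rI (P.eR (Nat.mul 9 e)))))))

theorem chkE_all : allP chkE 8 0 = true := by decide +kernel

noncomputable def chkE3 (e : ℕ) : Bool :=
  Bool.or (Nat.ble 243 e)
    (Bool.and (Nat.beq (ev3 (Nat.mul 9 e) (ev3 (Nat.mul 9 e) (ev3 (Nat.mul 9 e) 0))) 0)
      (Nat.beq (ev3 (Nat.mul 9 e) (ev3 (Nat.mul 9 e) (ev3 (Nat.mul 9 e) 4))) 4))

theorem chkE3_all : allP chkE3 8 0 = true := by decide +kernel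

theorem E3 (x : Suz) (hx : x ∈ E5) : x ^ 3 = 1 := by
  obtain ⟨e, he, rfl⟩ := exists_nE hx
  have h := allP_spec0 chkE3_all (i := e) (by norm_num; omega)
  unfold chkE3 at h
  rw [Bool.or_eq_true, Bool.and_eq_true] at h
  rcases h with h | ⟨h1, h2⟩
  · have := Nat.le_of_ble_eq_true h
    omega
  · have key : ∀ p < 1782,
        Nat.beq (ev3 (Nat.mul 9 e) (ev3 (Nat.mul 9 e) (ev3 (Nat.mul 9 e) p))) p = true →
        φ (n3 (9 * e) ^ 3) p = φ 1 p := by
      intro p hp hb
      have h3 := Nat.eq_of_beq_eq_true hb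
      change ev3 (9 * e) (ev3 (9 * e) (ev3 (9 * e) p)) = p at h3
      rw [ev3_eq _ hp, ev3_eq _ (φ_lt _ hp), ev3_eq _ (φ_lt _ (φ_lt _ hp))] at h3
      rw [pow_succ, pow_two, map_mul, map_mul, map_one]
      exact h3
    exact P.eq_of_key (pow_mem (n3_mem _) _) (one_mem _) (key 0 (by norm_num) h1)
      (key 4 (by norm_num) h2)

theorem E_cases {x : Suz} (hx : x ∈ E5) (hx1 : x ≠ 1) :
    Cen x ∧ ((∃ c ∈ PData.lA, n3 (Nat.land c 4095) = x) ∨ Inv x) := by
  obtain ⟨e, he, rfl⟩ := exists_nE hx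
  have h := allP_spec0 chkE_all (i := e) (by norm_num; omega)
  unfold chkE at h
  rw [Bool.or_eq_true, Bool.or_eq_true, Bool.and_eq_true, Bool.and_eq_true, Bool.or_eq_true] at h
  rcases h with h | h | ⟨h1, h2, h3⟩
  · exfalso
    apply hx1
    have := Nat.eq_of_beq_eq_true h
    subst this
    simp [n3, P.gs, nf]
  · have := Nat.le_of_ble_eq_true h
    omega
  · refine ⟨certB_Cen h1 h2, ?_⟩
    rcases h3 with h3 | h3
    · left
      obtain ⟨c, hc, hc'⟩ := anyL_spec h3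
      refine ⟨c, hc, ?_⟩
      have := Nat.eq_of_beq_eq_true hc'
      rw [this]; rfl
    · right
      exact certB_Inv h1 h3

theorem τcen : Cen τ := by
  refine ⟨ge .a, ⟨1, by group⟩, ?_⟩
  have h1 : el [.a, .d, .e] = el [.d, .e, .a] := el_eq (by decide +kernel)
  simp only [el_cons, el_nil, mul_one] at h1
  simp only [τ, el_cons, el_nil, mul_one]
  rw [h1]; group

theorem Ecen (x : Suz) (hx : x ∈ E5) : Cen x := by
  by_cases hx1 : x = 1
  · subst hx1
    exact ⟨ge .a, ⟨1, by group⟩, by group⟩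
  · exact (E_cases hx hx1).1

theorem lA_key : allL (fun c => Nat.beq (Nat.add (Nat.mul (ev3 (Nat.land c 4095) 0) 4096)
    (ev3 (Nat.land c 4095) 4)) (Nat.shiftRight c 12)) PData.lA = true := by decide +kernel

/-- Products of elements of class 3A in `E5`. -/
noncomputable def chkK1 (a b : ℕ) : Bool :=
  Bool.or (Nat.beq a b) (Bool.or (Nat.beq (Nat.add (Nat.mul (ev3 a (ev3 b 0)) 4096)
    (ev3 a (ev3 b 4))) 4) (Bool.not (P.memK (Nat.add (Nat.mul (ev3 a (ev3 b 0)) 4096)
    (ev3 a (ev3 b 4))))))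

theorem chkK : allL (fun a => allL (fun b => chkK1 (Nat.land a 4095) (Nat.land b 4095)) PData.lA)
    PData.lA = true := by decide +kernel

/-- The product of two elements of class 3A in `E5`. -/
theorem Inv_mul {x y : Suz} (hxE : x ∈ E5) (hyE : y ∈ E5) (hxy : x ≠ y) (hxy1 : x * y ≠ 1)
    (hx : ∃ c ∈ PData.lA, n3 (Nat.land c 4095) = x)
    (hy : ∃ c ∈ PData.lA, n3 (Nat.land c 4095) = y) : Inv (x * y) := by
  rcases (E_cases (mul_mem hxE hyE) hxy1).2 with ⟨c₃, hc₃, h3⟩ | h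
  · exfalso
    obtain ⟨c₁, hc₁, rfl⟩ := hx
    obtain ⟨c₂, hc₂, rfl⟩ := hy
    set a := Nat.land c₁ 4095 with ha
    set b := Nat.land c₂ 4095 with hb
    have h := allL_spec (allL_spec chkK c₁ hc₁) c₂ hc₂
    unfold chkK1 at h
    rw [← ha, ← hb, Bool.or_eq_true, Bool.or_eq_true] at h
    have e0 : ev3 a (ev3 b 0) = φ (n3 a * n3 b) 0 := by
      rw [ev3_eq b (by norm_num), ev3_eq a (φ_lt _ (by norm_num)), map_mul]; rfl
    have e4 : ev3 a (ev3 b 4) = φ (n3 a * n3 b) 4 := by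
      rw [ev3_eq b (by norm_num), ev3_eq a (φ_lt _ (by norm_num)), map_mul]; rfl
    have b4 : φ (n3 a * n3 b) 4 < 1782 := φ_lt _ (by norm_num)
    rcases h with h | h | h
    · apply hxy
      rw [Nat.eq_of_beq_eq_true h]
    · have h1 := Nat.eq_of_beq_eq_true h
      change ev3 a (ev3 b 0) * 4096 + ev3 a (ev3 b 4) = 4 at h1
      rw [e0, e4] at h1
      apply hxy1
      apply P.eq_of_key (mul_mem (n3_mem _) (n3_mem _)) (one_mem _)
      · rw [map_one]; change _ = 0; omega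
      · rw [map_one]; change _ = 4; omega
    · have h1 := Nat.eq_of_beq_eq_true (allL_spec lA_key c₃ hc₃)
      have h2 : P.memK (Nat.add (Nat.mul (ev3 a (ev3 b 0)) 4096) (ev3 a (ev3 b 4))) = true := by
        have h4 : Nat.add (Nat.mul (ev3 a (ev3 b 0)) 4096) (ev3 a (ev3 b 4)) =
            Nat.shiftRight c₃ 12 := by
          rw [← h1, e0, e4, ev3_eq _ (by norm_num), ev3_eq _ (by norm_num), h3]
        rw [h4]
        -- membership
        have key : ∀ (l : List ℕ), c₃ ∈ l →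
            anyL (fun c => Nat.beq (Nat.shiftRight c 12) (Nat.shiftRight c₃ 12)) l = true := by
          intro l
          induction l with
          | nil => intro h; exact absurd h (by simp)
          | cons y l ih =>
            intro h
            change Bool.or _ (anyL _ l) = true
            rw [Bool.or_eq_true]
            rcases List.mem_cons.mp h with rfl | h
            · left; exact Nat.beq_refl _
            · right; exact ih h
        exact key _ hc₃
      rw [h2] at h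
      exact absurd h (by decide)
  · exact h

theorem Einv (R : Subgroup Suz) (hR : R ≤ E5) (h9 : 9 ≤ Nat.card R) :
    ∃ e ∈ R, e ≠ 1 ∧ Inv e := by
  have hfin := finiteSuz
  have hcard : ∀ S : Set Suz, (R : Set Suz) ⊆ S → 9 ≤ S.ncard := by
    intro S hS
    refine h9.trans ?_
    have h1 : Nat.card R = (R : Set Suz).ncard := rfl
    rw [h1]
    exact Set.ncard_le_ncard hS (Set.toFinite S)
  obtain ⟨x, hxR, hx1⟩ : ∃ x ∈ R, x ≠ 1 := by
    by_contra h
    push Not at h
    have h2 := hcard {1} (fun y hy => h y hy)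
    rw [Set.ncard_singleton] at h2
    omega
  obtain ⟨y, hyR, hy1, hyx, hyx'⟩ : ∃ y ∈ R, y ≠ 1 ∧ y ≠ x ∧ y ≠ x⁻¹ := by
    by_contra h
    push Not at h
    have h2 := hcard {1, x, x⁻¹} (fun y hy => by
      by_cases h3 : y = 1
      · exact Or.inl h3
      · by_cases h4 : y = x
        · exact Or.inr (Or.inl h4)
        · exact Or.inr (Or.inr (h y hy h3 h4)))
    have h3 : ({1, x, x⁻¹} : Set Suz).ncard ≤ 3 := by
      refine (Set.ncard_insert_le _ _).trans ?_
      have := Set.ncard_insert_le x ({x⁻¹} : Set Suz)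
      rw [Set.ncard_singleton] at this
      omega
    omega
  rcases (E_cases (hR hxR) hx1).2 with hx | hx
  · rcases (E_cases (hR hyR) hy1).2 with hy | hy
    · have hxy1 : x * y ≠ 1 := by
        intro h
        exact hyx' (eq_inv_of_mul_eq_one_right h)
      exact ⟨x * y, mul_mem hxR hyR, hxy1, Inv_mul (hR hxR) (hR hyR) hyx.symm hxy1 hx hy⟩
    · exact ⟨y, hyR, hy1, hy⟩
  · exact ⟨x, hxR, hx1, hx⟩

theorem Pτ (p : Suz) (hp : p ∈ P7) : p * τ = τ * p := by
  have key : ∀ w : List Suz.Gen, eqB (fun p => pw w (pw [.d, .e] p))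
      (fun p => pw [.d, .e] (pw w p)) = true → el w * τ = τ * el w := by
    intro w hw
    refine eqB_spec hw (fun p hp => ?_) (fun p hp => ?_)
    · rw [pw_eq [.d, .e] hp, pw_eq _ (φ_lt _ hp), map_mul, Equiv.Perm.mul_apply]; rfl
    · rw [pw_eq w hp, pw_eq _ (φ_lt _ hp), map_mul, Equiv.Perm.mul_apply]; rfl
  have h1 : P7 ≤ Subgroup.centralizer ({τ} : Set Suz) := by
    rw [P7, cl, Subgroup.closure_le]
    intro u hu
    rw [SetLike.mem_coe, Subgroup.mem_centralizer_singleton_iff]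
    change u ∈ P.gs at hu
    simp only [P.gs, List.mem_cons, List.not_mem_nil, or_false] at hu
    rcases hu with rfl | rfl | rfl | rfl | rfl | rfl | rfl
    · exact key _ (by decide +kernel)
    · exact key _ (by decide +kernel)
    · exact key _ (by decide +kernel)
    · exact key _ (by decide +kernel)
    · exact key _ (by decide +kernel)
    · exact key _ (by decide +kernel)
    · exact key _ (by decide +kernel)
  have h2 := h1 hp
  rwa [Subgroup.mem_centralizer_singleton_iff] at h2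

end Cfsg.Agent.SporRec.SuzM.P
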